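import Groth.Agent.BGaNotS.GaPts
import Groth.Agent.HomDiag.DualConst
import Groth.Prelude.Def_NonAbH2

/-!
# The Artin-Schreier sequence
-/

set_option autoImplicit false
set_option linter.style.haveILetI false
set_option backward.isDefEq.respectTransparency false
set_option backward.isDefEq.respectTransparency.types false
set_option maxHeartbeats 800000
set_option synthInstance.maxHeartbeats 400000

universe u v

open CategoryTheory Limits MonoidalCategory CartesianMonoidalCategory MonObj GrpObj AlgebraicGeometry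
open scoped CategoryTheory.Obj

noncomputable section

namespace Groth.Agent.ASchreier

open Groth.Agent.BGaNotS
open Groth.Agent.HomDiag (isMonHom_of_mul)

variable {S : Scheme.{u}}

theorem gaFn_inv {W : Over S} (x : W ⟶ Red.Ga S) : Red.gaFn x⁻¹ = -Red.gaFn x := by
  refine (eq_neg_of_add_eq_zero_right ?_)
  rw [← gaFn_mul, mul_inv_cancel, gaFn_one]

variable (p : ℕ) [hp' : Fact p.Prime]

theorem nonempty_castHom {R : Type u} [CommRing R] (h : (p : R) = 0) : Nonempty (ZMod p →+* R) :=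
  haveI : CharP R (ringChar R) := ringChar.charP R
  ⟨ZMod.castHom ((ringChar.spec R p).1 h) R⟩

theorem castHom_apply {R : Type u} [CommRing R] (φ : ZMod p →+* R) (m : ZMod p) : φ m = (m.val : R) := by
  conv_lhs => rw [← ZMod.natCast_zmod_val m]
  exact map_natCast φ _

theorem hp_over (hp : (p : Γ(S, ⊤)) = 0) (T : Over S) : (p : Γ(T.left, ⊤)) = 0 := by
  have := congrArg T.hom.appTop.hom hp
  rwa [map_natCast, map_zero] at this

theorem isEmpty_of_subsingleton (X : Scheme.{u}) [Subsingleton Γ(X, ⊤)] : IsEmpty X :=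
  haveI : IsEmpty (Spec Γ(X, ⊤)) := inferInstanceAs (IsEmpty (PrimeSpectrum Γ(X, ⊤)))
  ⟨fun x => isEmptyElim (X.toSpecΓ x)⟩

theorem hom_ext_of_isEmpty {W Y : Over S} [IsEmpty W.left] (a b : W ⟶ Y) : a = b :=
  Over.OverMorphism.ext ((isInitialOfIsEmpty (X := W.left)).hom_ext _ _)

theorem eq_of_pieces {I : Type} {G X : Over S} (g : X ⟶ TwC.const S I) (a b : X ⟶ G)
    (h : ∀ (m : I) (W : Over S) (w : W ⟶ X), w ≫ g = toUnit W ≫ TwC.pt S I m → w ≫ a = w ≫ b) : a = b := by
  apply Over.OverMorphism.ext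
  refine Scheme.Cover.hom_ext ((sigmaOpenCover (fun _ : I => S)).pullback₁ g.left) _ _ fun m => ?_
  let W : Over S := Over.mk (pullback.fst g.left (Sigma.ι (fun _ : I => S) m) ≫ X.hom)
  let w : W ⟶ X := Over.homMk (pullback.fst g.left (Sigma.ι (fun _ : I => S) m)) rfl
  have hw : w ≫ g = toUnit W ≫ TwC.pt S I m := by
    apply Over.OverMorphism.ext
    show pullback.fst g.left (Sigma.ι (fun _ : I => S) m) ≫ g.left = (toUnit W).left ≫ Sigma.ι (fun _ : I => S) m
    rw [pullback.condition]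
    congr 1
    have h2 : pullback.snd g.left (Sigma.ι (fun _ : I => S) m) =
        pullback.fst g.left (Sigma.ι (fun _ : I => S) m) ≫ X.hom := by
      rw [← Over.w g, ← Category.assoc, pullback.condition, Category.assoc]
      show _ = _ ≫ Sigma.ι (fun _ : I => S) m ≫ Sigma.desc (fun _ => 𝟙 S)
      rw [Sigma.ι_desc, Category.comp_id]
    exact h2
  exact congrArg CommaMorphism.left (h m W w hw)

theorem field_root {κ : Type u} [Field κ] (φ : ZMod p →+* κ) (a : κ) (ha : a ^ p = a) : ∃ m, φ m = a := by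
  classical
  by_contra hne
  push Not at hne
  have hp1 : 1 < p := hp'.out.one_lt
  let s : Finset κ := insert a (Finset.univ.image φ)
  have hs : s.card = p + 1 := by
    rw [Finset.card_insert_of_notMem (by simpa using hne), Finset.card_image_of_injective _ φ.injective,
      Finset.card_univ, ZMod.card]
  have hsub : s.val ⊆ (Polynomial.X ^ p - Polynomial.X : Polynomial κ).roots := by
    intro x hx
    rw [Polynomial.mem_roots (FiniteField.X_pow_card_sub_X_ne_zero κ hp1), Polynomial.IsRoot, Polynomial.eval_sub,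
      Polynomial.eval_pow, Polynomial.eval_X, sub_eq_zero]
    rcases Finset.mem_insert.1 hx with rfl | hx
    · exact ha
    · obtain ⟨m, -, rfl⟩ := Finset.mem_image.1 hx
      rw [← map_pow, ZMod.pow_card]
  have := Polynomial.card_le_degree_of_subset_roots hsub
  rw [FiniteField.X_pow_card_sub_X_natDegree_eq κ hp1, hs] at this
  omega

theorem isUnit_ι_appTop {T : Scheme.{u}} (f : Γ(T, ⊤)) : IsUnit ((T.basicOpen f).ι.appTop f) := by
  have h := ((T.toRingedSpace.isUnit_res_basicOpen f).map (T.basicOpen f).topIso.inv.hom)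
  convert h using 1
  simp [Scheme.Opens.topIso]
  change _ = (T.presheaf.map _ ≫ T.presheaf.map _).hom f
  rw [← Functor.map_comp]
  rfl

/-- the idempotent of the locus where a root of `X ^ p - X` equals `m` -/
def idem {R : Type u} [CommRing R] (φ : ZMod p →+* R) (d : R) (m : ZMod p) : R := 1 - (d - φ m) ^ (p - 1)

theorem idem_mul {R : Type u} [CommRing R] (φ : ZMod p →+* R) {d : R} (hd : d ^ p = d) (m : ZMod p) :
    idem p φ d m * (d - φ m) = 0 := by
  have hp0 : (p : R) = 0 := by rw [← map_natCast φ, ZMod.natCast_self, map_zero]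
  rcases subsingleton_or_nontrivial R with h | h
  · exact Subsingleton.elim _ _
  haveI : CharP R p := charP_of_injective_ringHom φ.injective p
  rw [idem, sub_mul, _root_.one_mul, ← pow_succ, Nat.sub_add_cancel hp'.out.one_le, sub_pow_char, hd, ← map_pow,
    ZMod.pow_card, sub_self]

variable {p} (hp : (p : Γ(S, ⊤)) = 0)
include hp

theorem exists_factor {T : Over S} (d : Γ(T.left, ⊤)) (hd : d ^ p = d) (c : ZMod p → (𝟙_ (Over S) ⟶ Red.Ga S))
    {G' : Over S} (i : G' ⟶ Red.Ga S) (z : ZMod p → (𝟙_ (Over S) ⟶ G')) (hz : ∀ m, z m ≫ i = c m)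
    (φ : ZMod p →+* Γ(S, ⊤)) (hc : ∀ m, Red.gaFn (c m) = φ m) :
    ∃ g : T ⟶ G', Red.gaFn (g ≫ i) = d := by
  let φT : ZMod p →+* Γ(T.left, ⊤) := T.hom.appTop.hom.comp φ
  let U : ZMod p → T.left.Opens := fun m => T.left.basicOpen (idem p φT d m)
  have hloc : ∀ x : T.left, ∃ m, x ∈ U m ∧ ∀ n, x ∈ U n → n = m := fun x => by
    let ev : Γ(T.left, ⊤) →+* T.left.residueField x := (T.left.evaluation ⊤ x trivial).hom
    obtain ⟨m, hm⟩ := field_root p (ev.comp φT) (ev d) (by rw [← map_pow, hd])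
    have hev : ∀ n, ev (idem p φT d n) = 1 - (ev d - (ev.comp φT) n) ^ (p - 1) := fun n => by
      simp [idem]
    refine ⟨m, ?_, fun n hn => ?_⟩
    · refine (T.left.evaluation_ne_zero_iff_mem_basicOpen (U := ⊤) x trivial _).1 ?_
      change ev _ ≠ 0
      rw [hev, hm, sub_self, zero_pow (by have := hp'.out.two_le; omega), sub_zero]
      exact one_ne_zero
    · have h0 : ev (idem p φT d n) ≠ 0 := (T.left.evaluation_ne_zero_iff_mem_basicOpen (U := ⊤) x trivial _).2 hn
      have h1 := idem_mul p (φT) hd n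
      have h2 : ev (idem p φT d n) * (ev d - (ev.comp φT) n) = 0 := by
        have := congrArg ev h1
        simpa [map_mul, map_sub] using this
      refine (ev.comp φT).injective ?_
      rw [hm, eq_comm, ← sub_eq_zero]
      exact (mul_eq_zero.1 h2).resolve_left h0
  let 𝒰 : T.left.OpenCover := Scheme.openCoverOfIsOpenCover T.left U
    (TopologicalSpace.IsOpenCover.mk (top_unique fun x _ => by
      obtain ⟨m, hm, -⟩ := hloc x
      exact TopologicalSpace.Opens.mem_iSup.2 ⟨m, hm⟩))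
  let gl : ∀ m, (U m).toScheme ⟶ G'.left := fun m => ((U m).ι ≫ T.hom) ≫ (z m).left
  have hcompat : ∀ m n : ZMod p, pullback.fst (U m).ι (U n).ι ≫ gl m = pullback.snd (U m).ι (U n).ι ≫ gl n := by
    intro m n
    by_cases h : m = n
    · subst h
      rw [(cancel_mono (U m).ι).1 (pullback.condition (f := (U m).ι) (g := (U m).ι))]
    · haveI : IsEmpty ↥(pullback (U m).ι (U n).ι) := ⟨fun q => by
        have e : (U m).ι (pullback.fst (U m).ι (U n).ι q) = (U n).ι (pullback.snd (U m).ι (U n).ι q) :=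
          congrArg (fun f : pullback (U m).ι (U n).ι ⟶ T.left => f q) pullback.condition
        obtain ⟨k, -, hk⟩ := hloc ((U m).ι (pullback.fst (U m).ι (U n).ι q))
        exact h ((hk m (pullback.fst (U m).ι (U n).ι q).2).trans (hk n (e ▸ (pullback.snd (U m).ι (U n).ι q).2)).symm)⟩
      exact (isInitialOfIsEmpty (X := pullback (U m).ι (U n).ι)).hom_ext _ _
  obtain ⟨g, hg⟩ : ∃ g : T.left ⟶ G'.left, ∀ m : ZMod p, (U m).ι ≫ g = gl m :=
    ⟨𝒰.glueMorphisms gl hcompat, fun m => 𝒰.ι_glueMorphisms gl hcompat m⟩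
  have hzw : ∀ m, (z m).left ≫ G'.hom = 𝟙 S := fun m => Over.w (z m)
  have hw : g ≫ G'.hom = T.hom := 𝒰.hom_ext _ _ fun (m : ZMod p) => by
    show (U m).ι ≫ g ≫ G'.hom = (U m).ι ≫ T.hom
    rw [← Category.assoc, hg, Category.assoc, hzw, Category.comp_id]
  refine ⟨Over.homMk g hw, ?_⟩
  suffices h : Over.homMk g hw ≫ i = (gaPt d : T ⟶ Red.Ga S) by rw [h, gaFn_gaPt]
  apply Over.OverMorphism.ext
  refine 𝒰.hom_ext _ _ fun (m : ZMod p) => ?_
  let W : Over S := Over.mk ((U m).ι ≫ T.hom)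
  let w : W ⟶ T := Over.homMk (U m).ι rfl
  suffices h : w ≫ Over.homMk g hw ≫ i = w ≫ gaPt d from congrArg CommaMorphism.left h
  have h1 : w ≫ (Over.homMk g hw : T ⟶ G') = toUnit W ≫ z m := by
    apply Over.OverMorphism.ext
    exact hg m
  refine gaPt_ext ?_
  rw [← Category.assoc, h1, Category.assoc, hz, gaFn_comp, gaFn_comp, gaFn_gaPt, hc]
  show ((U m).ι ≫ T.hom).appTop (φ m) = (U m).ι.appTop d
  rw [Scheme.Hom.comp_appTop, CommRingCat.comp_apply]
  refine (sub_eq_zero.1 ?_).symm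
  rw [← map_sub]
  refine ((isUnit_ι_appTop (idem p φT d m)).mul_right_eq_zero).1 ?_
  rw [← map_mul]
  exact (congrArg _ (idem_mul p φT hd m)).trans (map_zero _)

variable {G' : Over S} (e : G' ≅ TwC.const S (Multiplicative (ZMod p))) (i : G' ⟶ Red.Ga S)
  (φ : ZMod p →+* Γ(S, ⊤))
  (hval : ∀ m, Red.gaFn ((TwC.pt S (Multiplicative (ZMod p)) m ≫ e.inv) ≫ i) = φ m.toAdd)

include hval in
theorem factor_unique {T : Over S} (z z' : T ⟶ G') (h : z ≫ i = z' ≫ i) : z = z' := by
  refine eq_of_pieces (z ≫ e.hom) _ _ fun m W w hw => ?_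
  refine eq_of_pieces ((w ≫ z') ≫ e.hom) _ _ fun n V v hv => ?_
  have e₁ : v ≫ w ≫ z = toUnit V ≫ TwC.pt S _ m ≫ e.inv := by
    rw [← cancel_mono e.hom]
    simp only [Category.assoc, Iso.inv_hom_id, Category.comp_id]
    rw [hw, ← Category.assoc, toUnit_unique (v ≫ toUnit W) (toUnit V)]
  have e₂ : v ≫ w ≫ z' = toUnit V ≫ TwC.pt S _ n ≫ e.inv := by
    rw [← cancel_mono e.hom]
    simp only [Category.assoc, Iso.inv_hom_id, Category.comp_id]
    simpa only [Category.assoc] using hv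
  by_cases hmn : m = n
  · rw [e₁, e₂, hmn]
  · let ψ : ZMod p →+* Γ(V.left, ⊤) := (toUnit V).left.appTop.hom.comp φ
    have hψ : ψ m.toAdd = ψ n.toAdd := by
      have := congrArg (fun t => Red.gaFn (v ≫ w ≫ t)) h
      have ee : ∀ k, Red.gaFn ((toUnit V ≫ TwC.pt S _ k ≫ e.inv) ≫ i) = ψ k.toAdd := fun k => by
        rw [Category.assoc, gaFn_comp, hval]
        rfl
      have f₁ : v ≫ w ≫ z ≫ i = (toUnit V ≫ TwC.pt S _ m ≫ e.inv) ≫ i := by rw [← e₁]; simp
      have f₂ : v ≫ w ≫ z' ≫ i = (toUnit V ≫ TwC.pt S _ n ≫ e.inv) ≫ i := by rw [← e₂]; simp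
      rw [f₁, f₂, ee, ee] at this
      exact this
    haveI : Subsingleton Γ(V.left, ⊤) := by
      by_contra hs
      haveI : Nontrivial Γ(V.left, ⊤) := not_subsingleton_iff_nontrivial.1 hs
      exact hmn (ψ.injective hψ)
    haveI := isEmpty_of_subsingleton V.left
    exact hom_ext_of_isEmpty _ _

include hval in
theorem exists_ker {T : Over S} {d : Γ(T.left, ⊤)} (hd : d ^ p = d) : ∃ g : T ⟶ G', Red.gaFn (g ≫ i) = d :=
  exists_factor hp d hd (fun m => (TwC.pt S _ (Multiplicative.ofAdd m) ≫ e.inv) ≫ i) i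
    (fun m => TwC.pt S _ (Multiplicative.ofAdd m) ≫ e.inv) (fun _ => rfl) φ (fun m => hval (Multiplicative.ofAdd m))

/-- the Artin-Schreier map has a section over a finite free cover -/
theorem exists_cover (P : Red.Ga S ⟶ Red.Ga S)
    (hP : ∀ (T : Over S) (x : T ⟶ Red.Ga S), Red.gaFn (x ≫ P) = Red.gaFn x - Red.gaFn x ^ p) :
    ∃ (S' : Scheme.{u}) (f : S' ⟶ (Red.Ga S).left), Flat f ∧ Surjective f ∧ LocallyOfFinitePresentation f ∧
      NonAbH1.HasSectionOver (Over.mk P.left : Over (Red.Ga S).left) f := by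
  let A : Type u := LineGrp.Sym.{u}
  let P₀ : Polynomial A := Polynomial.X ^ p - (Polynomial.X - Polynomial.C LineGrp.gen)
  have hp1 : 1 < p := hp'.out.one_lt
  have hP₀ : P₀.Monic := (Polynomial.monic_X_pow p).sub_of_left (by
    rw [Polynomial.degree_X_pow]
    exact (Polynomial.degree_X_sub_C_le _).trans_lt (by exact_mod_cast hp1))
  haveI : Nontrivial A := (SymmetricAlgebra.algebraMapInv (R := LineGrp.Z.{u}) (M := LineGrp.Z.{u})).toRingHom.domain_nontrivial
  let B := AdjoinRoot P₀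
  haveI : Module.Free A B := hP₀.free_adjoinRoot
  haveI : Module.Finite A B := hP₀.finite_adjoinRoot
  have hdeg : P₀.natDegree = p := by
    rw [Polynomial.natDegree_sub_eq_left_of_natDegree_lt]
    · exact Polynomial.natDegree_X_pow p
    · rw [Polynomial.natDegree_X_pow, Polynomial.natDegree_X_sub_C]; exact hp1
  haveI : Nontrivial B := (AdjoinRoot.powerBasis' hP₀).basis.repr.toEquiv.nontrivial_congr.2 (by
    haveI : Nonempty (Fin (AdjoinRoot.powerBasis' hP₀).dim) := ⟨⟨0, by
      rw [AdjoinRoot.powerBasis'_dim, hdeg]; omega⟩⟩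
    infer_instance)
  haveI : Module.FaithfullyFlat A B := inferInstance
  haveI : Algebra.FinitePresentation A B := by
    haveI : Module.FinitePresentation A B := Module.finitePresentation_of_projective A B
    exact Algebra.FinitePresentation.of_finitePresentation A B
  let c : Spec (CommRingCat.of B) ⟶ Spec (CommRingCat.of A) := Spec.map (CommRingCat.ofHom (algebraMap A B))
  haveI : Flat c := (HasRingHomProperty.Spec_iff (P := @Flat)).2 (RingHom.flat_algebraMap_iff.2 inferInstance)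
  haveI : Surjective c := ⟨fun q => PrimeSpectrum.comap_surjective_of_faithfullyFlat (A := A) (B := B) q⟩
  haveI : LocallyOfFinitePresentation c := (HasRingHomProperty.Spec_iff (P := @LocallyOfFinitePresentation)).2
    (RingHom.finitePresentation_algebraMap.2 inferInstance)
  let π : (Red.Ga S).left ⟶ Spec (CommRingCat.of A) := pullback.fst _ _
  let f : pullback π c ⟶ (Red.Ga S).left := pullback.fst π c
  refine ⟨pullback π c, f, inferInstance, inferInstance, inferInstance, ?_⟩
  let X : Over S := Over.mk (f ≫ (Red.Ga S).hom)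
  let g : X ⟶ Red.Ga S := Over.homMk f rfl
  let β : B →+* Γ(X.left, ⊤) := ((Scheme.ΓSpecIso (CommRingCat.of B)).inv ≫ (pullback.snd π c).appTop).hom
  have hg : Red.gaFn g = β (algebraMap A B LineGrp.gen) := by
    have h : f ≫ π = pullback.snd π c ≫ c := pullback.condition
    show (f ≫ π).appTop ((Scheme.ΓSpecIso (CommRingCat.of A)).inv LineGrp.gen) = _
    rw [h, Scheme.Hom.comp_appTop, CommRingCat.comp_apply]
    refine congrArg (fun t => (pullback.snd π c).appTop t) ?_
    show _ = (Scheme.ΓSpecIso (CommRingCat.of B)).inv (algebraMap A B LineGrp.gen)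
    rw [← CommRingCat.comp_apply, ← Scheme.ΓSpecIso_inv_naturality]
    rfl
  have hroot : AdjoinRoot.root P₀ - AdjoinRoot.root P₀ ^ p = algebraMap A B LineGrp.gen := by
    have h : AdjoinRoot.mk P₀ P₀ = 0 := AdjoinRoot.mk_self
    have h2 : AdjoinRoot.mk P₀ P₀ =
        AdjoinRoot.root P₀ ^ p - (AdjoinRoot.root P₀ - algebraMap A B LineGrp.gen) := by
      conv_lhs => arg 2; rw [show P₀ = Polynomial.X ^ p - (Polynomial.X - Polynomial.C LineGrp.gen) from rfl]
      rw [map_sub, map_pow, map_sub]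
      rfl
    rw [h] at h2
    linear_combination h2
  let s : X ⟶ Red.Ga S := gaPt (β (AdjoinRoot.root P₀))
  refine ⟨s.left, congrArg CommaMorphism.left (show s ≫ P = g from gaPt_ext ?_)⟩
  rw [hP, gaFn_gaPt, hg, ← hroot, map_sub, map_pow]

variable [GrpObj G'] [IsMonHom i]

omit [IsMonHom i] in
theorem isExactSeq_fppf [IsMonHom i] (F : Red.Ga S ⟶ Red.Ga S)
    (hF : ∀ (T : Over S) (x : T ⟶ Red.Ga S), Red.gaFn (x ≫ F) = Red.gaFn x ^ p)
    (he : TwC.IsConstGrp (Multiplicative (ZMod p)) G' e)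
    (hi : Red.gaFn (TwC.pt S (Multiplicative (ZMod p)) (Multiplicative.ofAdd 1) ≫ e.inv ≫ i) = 1) :
    NonAbH1.IsExactSeq Scheme.fppfPrecoverage i (𝟙 (Red.Ga S) * F⁻¹) := by
  obtain ⟨φ⟩ := nonempty_castHom p hp
  have hval : ∀ m, Red.gaFn ((TwC.pt S (Multiplicative (ZMod p)) m ≫ e.inv) ≫ i) = φ m.toAdd := by
    let c : ZMod p → (𝟙_ (Over S) ⟶ G') := fun m =>
      TwC.pt S (Multiplicative (ZMod p)) (Multiplicative.ofAdd m) ≫ e.inv
    have hc : ∀ a b, c a * c b = c (a + b) := fun a b => (he _ _).trans rfl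
    have key : ∀ k : ℕ, Red.gaFn (c (k : ZMod p) ≫ i) = (k : Γ((𝟙_ (Over S)).left, ⊤)) := by
      intro k
      induction k with
      | zero =>
        have h0 : c ((0 : ℕ) : ZMod p) = 1 := by
          have := hc 0 0
          rw [add_zero] at this
          rw [Nat.cast_zero]
          exact mul_eq_left.1 this
        rw [h0, MonObj.one_comp, gaFn_one, Nat.cast_zero]
      | succ k ih =>
        rw [Nat.cast_succ, ← hc, MonObj.mul_comp, gaFn_mul, ih, Nat.cast_succ]
        have h1 : Red.gaFn (c 1 ≫ i) = 1 := by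
          simp only [c, Category.assoc]
          exact hi
        rw [h1]
    intro m
    rw [castHom_apply p φ]
    have := key m.toAdd.val
    rw [ZMod.natCast_zmod_val] at this
    exact this
  let P : Red.Ga S ⟶ Red.Ga S := 𝟙 (Red.Ga S) * F⁻¹
  have hP : ∀ (T : Over S) (x : T ⟶ Red.Ga S), Red.gaFn (x ≫ P) = Red.gaFn x - Red.gaFn x ^ p := fun T x => by
    rw [show x ≫ P = x * (x ≫ F)⁻¹ by
      show x ≫ (𝟙 (Red.Ga S) * F⁻¹) = _
      rw [MonObj.comp_mul, GrpObj.comp_inv, Category.comp_id], gaFn_mul, gaFn_inv, hF, sub_eq_add_neg]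
  have hchar : ∀ (T : Over S) (a b : Γ(T.left, ⊤)), (a - b) ^ p = a ^ p - b ^ p := fun T a b => by
    rcases subsingleton_or_nontrivial Γ(T.left, ⊤) with h | h
    · exact Subsingleton.elim _ _
    haveI : CharP Γ(T.left, ⊤) p :=
      charP_of_injective_ringHom (T.hom.appTop.hom.comp φ).injective p
    exact sub_pow_char _ _
  haveI hPm : IsMonHom P := isMonHom_of_mul _ fun T x y => gaPt_ext (by
    rw [gaFn_mul, hP, hP, hP, gaFn_mul]
    have h0 := hchar T (Red.gaFn x + Red.gaFn y) (Red.gaFn y)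
    rw [add_sub_cancel_right] at h0
    linear_combination h0)
  have hcomp : i ≫ P = 1 := by
    refine eq_of_pieces e.hom _ _ fun m W w hw => ?_
    have hw' : w = toUnit W ≫ TwC.pt S _ m ≫ e.inv := by
      rw [← cancel_mono e.hom]
      simpa using hw
    refine gaPt_ext ?_
    rw [MonObj.comp_one, gaFn_one, hw', Category.assoc, gaFn_comp]
    have h0 : Red.gaFn ((TwC.pt S (Multiplicative (ZMod p)) m ≫ e.inv) ≫ i ≫ P) = 0 := by
      rw [← Category.assoc (TwC.pt S _ m ≫ e.inv) i P, hP, hval, sub_eq_zero]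
      exact (congrArg φ (ZMod.pow_card _).symm).trans (map_pow φ _ p)
    rw [h0, map_zero]
  refine ⟨inferInstance, hPm, hcomp, ?_, ?_⟩
  · have hmul : ∀ {X : Over S} (a : X ⟶ Red.Ga S) (w : X ⟶ G'),
        lift a w ≫ (Red.Ga S ◁ i) ≫ μ[Red.Ga S] = a * (w ≫ i) := fun a w => by
      rw [lift_whiskerLeft_assoc, Hom.mul_def]
    have hw : (Red.Ga S ◁ i) ≫ μ[Red.Ga S] = fst (Red.Ga S) G' * (snd (Red.Ga S) G' ≫ i) := by
      have := hmul (fst (Red.Ga S) G') (snd (Red.Ga S) G')
      rwa [lift_fst_snd, Category.id_comp] at this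
    have hd : ∀ s : PullbackCone P P, ∃ w : s.pt ⟶ G', w ≫ i = s.fst⁻¹ * s.snd := fun s => by
      have h := congrArg Red.gaFn s.condition
      rw [hP, hP] at h
      have hd' : (Red.gaFn s.snd - Red.gaFn s.fst) ^ p = Red.gaFn s.snd - Red.gaFn s.fst := by
        rw [hchar]
        linear_combination h
      obtain ⟨w, hw⟩ := exists_ker hp e i φ hval hd'
      exact ⟨w, gaPt_ext (by rw [hw, gaFn_mul, gaFn_inv, neg_add_eq_sub])⟩
    choose w hwu using hd
    refine ⟨⟨?_⟩, ⟨PullbackCone.IsLimit.mk _ (fun s => lift s.fst (w s)) (fun s => lift_fst _ _) (fun s => ?_)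
      (fun s m h1 h2 => ?_)⟩⟩
    · show fst _ _ ≫ P = (_ ≫ _) ≫ P
      rw [hw, MonObj.mul_comp, Category.assoc, hcomp, MonObj.comp_one, _root_.mul_one]
    · rw [hmul, hwu, mul_inv_cancel_left]
    · refine CartesianMonoidalCategory.hom_ext _ _ (by rw [lift_fst, h1]) ?_
      rw [lift_snd]
      refine factor_unique hp e i φ hval _ _ ?_
      rw [hwu, ← h1, ← h2, hw, MonObj.comp_mul, Category.assoc]
      exact (inv_mul_cancel_left (m ≫ fst (Red.Ga S) G') (m ≫ snd (Red.Ga S) G' ≫ i)).symm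
  · obtain ⟨S', f, h1, h2, h3, h4⟩ := exists_cover hp P hP
    refine ⟨_, @Scheme.Hom.singleton_mem_fppfPrecoverage _ _ f h1 h2 h3, ?_⟩
    rintro _ _ ⟨⟩
    exact h4

end Groth.Agent.ASchreier
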